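import Mathlib

/-!
# Flat + reduced base + reduced fibres ⇒ reduced (algebra part) (helper24)
-/

set_option autoImplicit false
universe u
open TensorProduct

namespace Groth.Agent.Lib.Helper24.RedFib

variable {R S : Type u} [CommRing R] [CommRing S] [Algebra R S]

/-- If `S` is flat over `R` and finitely many fields `K i` detect nilpotents of `R` and the
"fibres" `S ⊗ K i` are reduced, then nilpotents of `S` lie in `nilradical R • S`. -/
theorem mem_nilradical_smul_top [Module.Flat R S] {ι : Type*} [Finite ι] (K : ι → Type u)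
    [∀ i, Field (K i)] [∀ i, Algebra R (K i)]
    (hK : ∀ a : R, (∀ i, algebraMap R (K i) a = 0) → IsNilpotent a)
    (hred : ∀ i, IsReduced (S ⊗[R] K i)) (x : S) (hx : IsNilpotent x) :
    x ∈ (nilradical R) • (⊤ : Submodule R S) := by
  classical
  haveI := Fintype.ofFinite ι
  set J : Ideal R := nilradical R with hJ
  let g : R →ₗ[R] (∀ i, K i) := LinearMap.pi (fun i => Algebra.linearMap R (K i))
  have hle : J ≤ LinearMap.ker g := by
    intro a ha
    rw [LinearMap.mem_ker]
    funext i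
    have h1 : IsNilpotent (algebraMap R (K i) a) := (mem_nilradical.mp ha).map _
    exact h1.eq_zero
  have hge : LinearMap.ker g ≤ J := by
    intro a ha
    rw [LinearMap.mem_ker] at ha
    exact mem_nilradical.mpr (hK a (fun i => congrFun ha i))
  let g' : (R ⧸ J) →ₗ[R] (∀ i, K i) := Submodule.liftQ J g hle
  have ginj : Function.Injective g' := by
    rw [← LinearMap.ker_eq_bot]
    exact Submodule.ker_liftQ_eq_bot _ _ _ hge
  have hinj := Module.Flat.lTensor_preserves_injective_linearMap (M := S) g' ginj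
  have h0 : (g'.lTensor S) (x ⊗ₜ[R] (1 : R ⧸ J)) = 0 := by
    apply (TensorProduct.piRight R R S K).injective
    rw [map_zero, LinearMap.lTensor_tmul]
    funext i
    have h1 : g' (1 : R ⧸ J) = fun i => (1 : K i) := by
      have : (1 : R ⧸ J) = Submodule.Quotient.mk (1 : R) := rfl
      rw [this, Submodule.liftQ_apply]
      funext j
      simp [g]
    rw [h1]
    simp only [piRight_apply, piRightHom_tmul, Pi.zero_apply]
    have h2 : IsNilpotent (x ⊗ₜ[R] (1 : K i)) := by
      obtain ⟨n, hn⟩ := hx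
      refine ⟨n, ?_⟩
      rw [Algebra.TensorProduct.tmul_pow, hn, zero_tmul]
    exact h2.eq_zero
  have h3 : x ⊗ₜ[R] (1 : R ⧸ J) = 0 := hinj (by rw [h0, map_zero])
  have h4 := congrArg (TensorProduct.tensorQuotEquivQuotSMul S J) h3
  rw [map_zero] at h4
  have h5 : (1 : R ⧸ J) = Ideal.Quotient.mk J 1 := rfl
  rw [h5, tensorQuotEquivQuotSMul_tmul_mk, one_smul, Submodule.Quotient.mk_eq_zero] at h4
  exact h4

/-- Elements of `nilradical R • S` are killed by an element outside `q` if `R` is "reduced at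
`q`". -/
theorem exists_mul_eq_zero_of_mem_smul (q : Ideal S) [q.IsPrime]
    (hR : ∀ a ∈ nilradical R, ∃ t : R, algebraMap R S t ∉ q ∧ t * a = 0)
    (x : S) (hx : x ∈ (nilradical R) • (⊤ : Submodule R S)) :
    ∃ u : S, u ∉ q ∧ u * x = 0 := by
  refine Submodule.smul_induction_on hx ?_ ?_
  · intro a ha s _
    obtain ⟨t, ht, hta⟩ := hR a ha
    refine ⟨algebraMap R S t, ht, ?_⟩
    rw [Algebra.smul_def, ← mul_assoc, ← map_mul, hta, map_zero, zero_mul]
  · intro x y hx hy
    obtain ⟨u, hu, hux⟩ := hx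
    obtain ⟨v, hv, hvy⟩ := hy
    refine ⟨u * v, fun h => (Ideal.IsPrime.mem_or_mem ‹_› h).elim hu hv, ?_⟩
    rw [mul_add, mul_right_comm, hux, zero_mul, mul_assoc, hvy, mul_zero, add_zero]

/-- Main algebra statement. -/
theorem isReduced_of_flat [Module.Flat R S] {ι : Type*} [Finite ι] (K : ι → Type u)
    [∀ i, Field (K i)] [∀ i, Algebra R (K i)]
    (hK : ∀ a : R, (∀ i, algebraMap R (K i) a = 0) → IsNilpotent a)
    (hred : ∀ i, IsReduced (S ⊗[R] K i))
    (q : Ideal S) [q.IsPrime]
    (hR : ∀ a ∈ nilradical R, ∃ t : R, algebraMap R S t ∉ q ∧ t * a = 0)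
    (T : Type*) [CommRing T] [Algebra S T] [IsLocalization.AtPrime T q] : IsReduced T := by
  constructor
  intro b hb
  obtain ⟨x, v, rfl⟩ := IsLocalization.exists_mk'_eq q.primeCompl b
  obtain ⟨n, hn⟩ := hb
  rw [← IsLocalization.mk'_pow, IsLocalization.mk'_eq_zero_iff] at hn
  obtain ⟨w, hw⟩ := hn
  have hnil : IsNilpotent ((w : S) * x) := by
    refine ⟨n + 1, ?_⟩
    calc ((w : S) * x) ^ (n + 1) = (w : S) ^ n * x * ((w : S) * x ^ n) := by ring
      _ = 0 := by rw [hw, mul_zero]
  obtain ⟨u, hu, hux⟩ := exists_mul_eq_zero_of_mem_smul q hR _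
    (mem_nilradical_smul_top K hK hred _ hnil)
  rw [IsLocalization.mk'_eq_zero_iff]
  refine ⟨⟨u * w, ?_⟩, ?_⟩
  · exact fun h => (Ideal.IsPrime.mem_or_mem ‹_› h).elim hu w.2
  · show u * w * x = 0
    rw [mul_assoc, hux]

end Groth.Agent.Lib.Helper24.RedFib
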