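import Mathlib
import Groth.Agent.Lib.Helper24.RedFib.Alg
import Groth.Agent.Lib.lead.ResTrdegBridge

/-!
# Flat + reduced base + reduced fibres ⇒ reduced (scheme part) (helper24)
-/

set_option autoImplicit false
universe u
open CategoryTheory CategoryTheory.Limits AlgebraicGeometry Opposite TensorProduct

namespace Groth.Agent.Lib.Helper24.RedFib

/-- Affine charts of a reduced fibre are reduced. -/
theorem isReduced_tensor_of_fiber {X Y : Scheme.{u}} (f : X ⟶ Y) {V : Y.Opens}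
    (hV : IsAffineOpen V) {U : X.Opens} (hU : IsAffineOpen U) (e : U ≤ f ⁻¹ᵁ V) (y : Y)
    (hy : y ∈ V) (hfib : AlgebraicGeometry.IsReduced (f.fiber y)) :
    letI := (f.appLE V U e).hom.toAlgebra
    letI := (Y.evaluation V y hy).hom.toAlgebra
    _root_.IsReduced (Γ(X, U) ⊗[Γ(Y, V)] (Y.residueField y)) := by
  letI := (f.appLE V U e).hom.toAlgebra
  letI := (Y.evaluation V y hy).hom.toAlgebra
  have e₁ : Spec.map (CommRingCat.ofHom (algebraMap Γ(Y, V) Γ(X, U))) ≫ hV.fromSpec =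
      hU.fromSpec ≫ f := IsAffineOpen.SpecMap_appLE_fromSpec f hV hU e
  have e₂ : Spec.map (CommRingCat.ofHom (algebraMap Γ(Y, V) (Y.residueField y))) ≫ hV.fromSpec =
      𝟙 _ ≫ Y.fromSpecResidueField y := by
    rw [Category.id_comp]
    show Spec.map (Y.evaluation V y hy) ≫ hV.fromSpec = _
    rw [Scheme.evaluation, Spec.map_comp, Category.assoc, Scheme.fromSpecResidueField,
      ← hV.fromSpecStalk_eq_fromSpecStalk hy, IsAffineOpen.fromSpecStalk]
  let j := pullback.map (Spec.map (CommRingCat.ofHom (algebraMap Γ(Y, V) Γ(X, U))))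
    (Spec.map (CommRingCat.ofHom (algebraMap Γ(Y, V) (Y.residueField y)))) f
    (Y.fromSpecResidueField y) hU.fromSpec (𝟙 _) hV.fromSpec e₁ e₂
  haveI : AlgebraicGeometry.IsReduced (pullback f (Y.fromSpecResidueField y)) := hfib
  have h1 : AlgebraicGeometry.IsReduced
      (Spec (.of (Γ(X, U) ⊗[Γ(Y, V)] (Y.residueField y)))) :=
    isReduced_of_isOpenImmersion
      ((pullbackSpecIso Γ(Y, V) Γ(X, U) (Y.residueField y)).inv ≫ j)
  exact (affine_isReduced_iff _).mp h1

theorem primeIdealOf_fromSpec {X : Scheme.{u}} {U : X.Opens} (hU : IsAffineOpen U)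
    (p : PrimeSpectrum Γ(X, U)) (h : hU.fromSpec p ∈ U) :
    hU.primeIdealOf ⟨hU.fromSpec p, h⟩ = p :=
  hU.fromSpec.isOpenEmbedding.injective (hU.fromSpec_primeIdealOf ⟨hU.fromSpec p, h⟩)

theorem fromSpec_mem {X : Scheme.{u}} {U : X.Opens} (hU : IsAffineOpen U)
    (p : PrimeSpectrum Γ(X, U)) : hU.fromSpec p ∈ U := by
  have : hU.fromSpec p ∈ Set.range hU.fromSpec := ⟨p, rfl⟩
  rw [hU.range_fromSpec] at this
  exact this

theorem isReduced_stalk {X Y : Scheme.{u}} [IsLocallyNoetherian Y]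
    (f : X ⟶ Y) [Flat f] (x : X) (hY : _root_.IsReduced (Y.presheaf.stalk (f.base x)))
    (hfib : ∀ y : Y, AlgebraicGeometry.IsReduced (f.fiber y)) :
    _root_.IsReduced (X.presheaf.stalk x) := by
  obtain ⟨V, hV, hyV, -⟩ := TopologicalSpace.Opens.isBasis_iff_nbhd.mp Y.isBasis_affineOpens
    (show f x ∈ (⊤ : Y.Opens) from trivial)
  obtain ⟨U, hU, hxU, hUV⟩ := TopologicalSpace.Opens.isBasis_iff_nbhd.mp X.isBasis_affineOpens
    (show x ∈ f ⁻¹ᵁ V from hyV)
  letI := (f.appLE V U hUV).hom.toAlgebra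
  haveI : Module.Flat Γ(Y, V) Γ(X, U) :=
    HasRingHomProperty.appLE @Flat f inferInstance ⟨V, hV⟩ ⟨U, hU⟩ hUV
  haveI : IsNoetherianRing Γ(Y, V) := IsLocallyNoetherian.component_noetherian ⟨V, hV⟩
  letI := X.presheaf.algebra_section_stalk ⟨x, hxU⟩
  haveI := hU.isLocalization_stalk ⟨x, hxU⟩
  let ι := ↥(minimalPrimes Γ(Y, V))
  haveI : Finite ι := (minimalPrimes.finite_of_isNoetherianRing Γ(Y, V)).to_subtype
  haveI hprime : ∀ i : ι, i.1.IsPrime := fun i => i.2.1.1
  let pt : ι → Y := fun i => hV.fromSpec ⟨i.1, hprime i⟩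
  have hpt : ∀ i, pt i ∈ V := fun i => fromSpec_mem hV _
  let K : ι → Type u := fun i => Y.residueField (pt i)
  letI : ∀ i, Field (K i) := fun i => inferInstanceAs (Field (Y.residueField (pt i)))
  letI : ∀ i, Algebra Γ(Y, V) (K i) := fun i => (Y.evaluation V (pt i) (hpt i)).hom.toAlgebra
  have hker : ∀ i, RingHom.ker (algebraMap Γ(Y, V) (K i)) = i.1 := by
    intro i
    show RingHom.ker (Y.evaluation V (pt i) (hpt i)).hom = _
    rw [Groth.Agent.Lib.lead.ResTrdegBridge.ker_evaluation hV, primeIdealOf_fromSpec]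
  have hK : ∀ a : Γ(Y, V), (∀ i, algebraMap Γ(Y, V) (K i) a = 0) → IsNilpotent a := by
    intro a ha
    rw [← mem_nilradical, nilradical, ← Ideal.sInf_minimalPrimes, Ideal.mem_sInf]
    intro p hp
    have := ha ⟨p, hp⟩
    rw [← RingHom.mem_ker, hker] at this
    exact this
  have hred : ∀ i, _root_.IsReduced (Γ(X, U) ⊗[Γ(Y, V)] K i) := fun i =>
    isReduced_tensor_of_fiber f hV hU hUV (pt i) (hpt i) (hfib _)
  have hR : ∀ a ∈ nilradical Γ(Y, V), ∃ t : Γ(Y, V),
      algebraMap Γ(Y, V) Γ(X, U) t ∉ (hU.primeIdealOf ⟨x, hxU⟩).asIdeal ∧ t * a = 0 := by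
    intro a ha
    letI := Y.presheaf.algebra_section_stalk ⟨f x, hyV⟩
    haveI := hV.isLocalization_stalk ⟨f x, hyV⟩
    have h1 : IsNilpotent (algebraMap Γ(Y, V) (Y.presheaf.stalk (f x)) a) :=
      (mem_nilradical.mp ha).map _
    have h2 := h1.eq_zero
    rw [IsLocalization.map_eq_zero_iff (hV.primeIdealOf ⟨f x, hyV⟩).asIdeal.primeCompl] at h2
    obtain ⟨t, ht⟩ := h2
    refine ⟨t, ?_, ht⟩
    have hco := IsAffineOpen.comap_primeIdealOf_appLE (f := f) (x := x) V hV U hU hUV hxU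
    intro hmem
    have h' : (t : Γ(Y, V)) ∈
        ((hU.primeIdealOf ⟨x, hxU⟩).comap (f.appLE V U hUV).hom).asIdeal := hmem
    rw [hco] at h'
    exact t.2 h'
  exact isReduced_of_flat K hK hred (hU.primeIdealOf ⟨x, hxU⟩).asIdeal hR _

theorem main {X Y : Scheme.{u}} [IsLocallyNoetherian Y]
    (f : X ⟶ Y) [Flat f] (hY : ∀ x : X, _root_.IsReduced (Y.presheaf.stalk (f.base x)))
    (hfib : ∀ y : Y, AlgebraicGeometry.IsReduced (f.fiber y)) :
    AlgebraicGeometry.IsReduced X := by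
  have : ∀ x : X, _root_.IsReduced (X.presheaf.stalk x) := fun x =>
    isReduced_stalk f x (hY x) hfib
  exact isReduced_of_isReduced_stalk X

end Groth.Agent.Lib.Helper24.RedFib
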