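import Mathlib
import Groth.Agent.Lib.Helper24.RedFib.Sch
import Groth.Agent.Lib.Helper24.Unibranch.Top

/-!
# Flat + reduced base with finitely many components + reduced generic fibres ⇒ reduced (helper24)
-/

set_option autoImplicit false
universe u
open CategoryTheory CategoryTheory.Limits AlgebraicGeometry Opposite TensorProduct

namespace Groth.Agent.Lib.Helper24.RedFib

open Groth.Agent.Lib.Helper24.Unibranch

theorem isReduced_stalk_generic {X Y : Scheme.{u}} (f : X ⟶ Y) [Flat f]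
    [AlgebraicGeometry.IsReduced Y] (hfin : (irreducibleComponents ↥Y).Finite)
    (h : ∀ η : Y, closure {η} ∈ irreducibleComponents ↥Y →
      AlgebraicGeometry.IsReduced (f.fiber η)) (x : X) :
    _root_.IsReduced (X.presheaf.stalk x) := by
  obtain ⟨V, hV, hyV, -⟩ := TopologicalSpace.Opens.isBasis_iff_nbhd.mp Y.isBasis_affineOpens
    (show f x ∈ (⊤ : Y.Opens) from trivial)
  obtain ⟨U, hU, hxU, hUV⟩ := TopologicalSpace.Opens.isBasis_iff_nbhd.mp X.isBasis_affineOpens
    (show x ∈ f ⁻¹ᵁ V from hyV)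
  letI := (f.appLE V U hUV).hom.toAlgebra
  haveI : Module.Flat Γ(Y, V) Γ(X, U) :=
    HasRingHomProperty.appLE @Flat f inferInstance ⟨V, hV⟩ ⟨U, hU⟩ hUV
  letI := X.presheaf.algebra_section_stalk ⟨x, hxU⟩
  haveI := hU.isLocalization_stalk ⟨x, hxU⟩
  let ι := {η : Y // closure {η} ∈ irreducibleComponents ↥Y ∧ η ∈ V}
  haveI : Finite ι := by
    haveI := hfin.to_subtype
    let g : ι → ↥(irreducibleComponents ↥Y) := fun η => ⟨closure {η.1}, η.2.1⟩
    refine Finite.of_injective g ?_
    intro η₁ η₂ he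
    have h1 : closure {η₁.1} = closure {η₂.1} := congrArg Subtype.val he
    exact Subtype.ext ((inseparable_iff_closure_eq.mpr h1).eq)
  let K : ι → Type u := fun i => Y.residueField i.1
  letI : ∀ i, Field (K i) := fun i => inferInstanceAs (Field (Y.residueField i.1))
  letI : ∀ i, Algebra Γ(Y, V) (K i) := fun i => (Y.evaluation V i.1 i.2.2).hom.toAlgebra
  have hK : ∀ a : Γ(Y, V), (∀ i, algebraMap Γ(Y, V) (K i) a = 0) → IsNilpotent a := by
    intro a ha
    have h0 : Y.basicOpen a = ⊥ := by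
      rw [eq_bot_iff]
      intro y hy
      exfalso
      obtain ⟨η, hηy, hmax⟩ := exists_maxPt y
      have hη : η ∈ Y.basicOpen a := hηy.mem_open (Y.basicOpen a).2 hy
      have hηV : η ∈ V := Y.basicOpen_le a hη
      have h1 := ha ⟨η, hmax.closure_mem_irreducibleComponents, hηV⟩
      have h2 : (Y.evaluation V η hηV).hom a = 0 := h1
      rw [Y.evaluation_eq_zero_iff_notMem_basicOpen η hηV a] at h2
      exact h2 hη
    rw [(basicOpen_eq_bot_iff a).mp h0]
    exact IsNilpotent.zero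
  have hred : ∀ i, _root_.IsReduced (Γ(X, U) ⊗[Γ(Y, V)] K i) := fun i =>
    isReduced_tensor_of_fiber f hV hU hUV i.1 i.2.2 (h _ i.2.1)
  have hR : ∀ a ∈ nilradical Γ(Y, V), ∃ t : Γ(Y, V),
      algebraMap Γ(Y, V) Γ(X, U) t ∉ (hU.primeIdealOf ⟨x, hxU⟩).asIdeal ∧ t * a = 0 := by
    intro a ha
    have ha0 : a = 0 := (mem_nilradical.mp ha).eq_zero
    refine ⟨1, ?_, by rw [ha0, mul_zero]⟩
    rw [map_one]
    exact (hU.primeIdealOf ⟨x, hxU⟩).isPrime.one_notMem
  exact isReduced_of_flat K hK hred (hU.primeIdealOf ⟨x, hxU⟩).asIdeal hR _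

theorem main_generic {X Y : Scheme.{u}} (f : X ⟶ Y) [Flat f]
    [AlgebraicGeometry.IsReduced Y] (hfin : (irreducibleComponents ↥Y).Finite)
    (h : ∀ η : Y, closure {η} ∈ irreducibleComponents ↥Y →
      AlgebraicGeometry.IsReduced (f.fiber η)) :
    AlgebraicGeometry.IsReduced X := by
  have : ∀ x : X, _root_.IsReduced (X.presheaf.stalk x) := fun x =>
    isReduced_stalk_generic f hfin h x
  exact isReduced_of_isReduced_stalk X

end Groth.Agent.Lib.Helper24.RedFib
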